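import Groth.Agent.L20.SeeNormal.Sheaf
import Groth.Agent.L20.Infinitesimal.Flat
import Groth.Agent.L22.Cyc.OrdGen
import Mathlib.RingTheory.DiscreteValuationRing.Basic
import Mathlib.AlgebraicGeometry.Noetherian

/-!
The closed subscheme without embedded components of an effective cycle of codimension one.
-/

set_option autoImplicit false
set_option linter.style.haveILetI false
set_option linter.unusedSectionVars false
set_option backward.isDefEq.respectTransparency false
set_option backward.isDefEq.respectTransparency.types false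

universe u

open CategoryTheory AlgebraicGeometry TopologicalSpace IsLocalRing

noncomputable section

namespace Groth.L22.DivSub

open Groth.L20.SeeNormal (sI sI_eq)

variable {X : Scheme.{u}} (a : X → ℕ) (hfin : {x | a x ≠ 0}.Finite)

/-- The functions vanishing to the given orders. -/
def idealOn (U : X.affineOpens) : Ideal Γ(X, U.1) where
  carrier := {c | ∀ (z : X) (hz : z ∈ U.1), X.presheaf.germ U.1 z hz c ∈ maximalIdeal (X.presheaf.stalk z) ^ a z}
  add_mem' hc hd z hz := by rw [map_add]; exact add_mem (hc z hz) (hd z hz)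
  zero_mem' z hz := by rw [map_zero]; exact zero_mem _
  smul_mem' r c hc z hz := by rw [smul_eq_mul, map_mul]; exact Ideal.mul_mem_left _ _ (hc z hz)

/-- The ideal sheaf. -/
def idl : X.IdealSheafData where
  ideal := idealOn a
  map_ideal_basicOpen U r := by
    refine le_antisymm (Ideal.map_le_iff_le_comap.2 fun c hc z hz => ?_) fun b hb => ?_
    · show X.presheaf.germ (X.basicOpen r) z hz ((X.presheaf.map (homOfLE (X.basicOpen_le r)).op).hom c) ∈ _
      rw [TopCat.Presheaf.germ_res_apply]
      exact hc z (X.basicOpen_le r hz)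
    · classical
      letI : Algebra Γ(X, U.1) Γ(X, X.basicOpen r) := (X.presheaf.map (homOfLE <| X.basicOpen_le r).op).hom.toAlgebra
      haveI := U.2.isLocalization_basicOpen r
      obtain ⟨⟨c, ⟨_, n, rfl⟩⟩, hcb⟩ := IsLocalization.surj (Submonoid.powers r) (show Γ(X, X.basicOpen r) from b)
      let N := hfin.toFinset.sup a
      have hN : r ^ N * c ∈ idealOn a U := fun z hz => by
        rw [map_mul, map_pow]
        by_cases hzr : z ∈ X.basicOpen r
        · refine Ideal.mul_mem_left _ _ ?_
          have h1 := congrArg (X.presheaf.germ (X.basicOpen r) z hzr) hcb.symm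
          rw [show algebraMap Γ(X, U.1) Γ(X, X.basicOpen r) c = (X.presheaf.map (homOfLE (X.basicOpen_le r)).op).hom c from rfl,
            TopCat.Presheaf.germ_res_apply, map_mul] at h1
          rw [h1]
          exact Ideal.mul_mem_right _ _ (hb z hzr)
        · by_cases ha : a z = 0
          · rw [ha, pow_zero, Ideal.one_eq_top]; exact Submodule.mem_top
          · refine Ideal.mul_mem_right _ _ ?_
            refine Ideal.pow_le_pow_right (show a z ≤ N from Finset.le_sup (hfin.mem_toFinset.2 ha))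
              (Ideal.pow_mem_pow ?_ _)
            exact fun hu => hzr ((X.mem_basicOpen r z hz).2 hu)
      have h1 := Ideal.mem_map_of_mem (algebraMap Γ(X, U.1) Γ(X, X.basicOpen r)) hN
      rw [map_mul, ← hcb, mul_left_comm, ← map_mul] at h1
      have hu : IsUnit (algebraMap Γ(X, U.1) Γ(X, X.basicOpen r) (r ^ N * r ^ n)) := by
        rw [← pow_add]
        exact IsLocalization.map_units _ (⟨r ^ (N + n), ⟨N + n, rfl⟩⟩ : Submonoid.powers r)
      exact (Ideal.mul_unit_mem_iff_mem _ hu).1 h1

theorem sI_le_comap (J : X.IdealSheafData) {y x : X} (h : y ⤳ x) :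
    sI J y = (sI J x).map (X.presheaf.stalkSpecializes h).hom := by
  obtain ⟨U, hU, hxU, -⟩ := exists_isAffineOpen_mem_and_subset (x := x) (U := (⊤ : X.Opens)) trivial
  rw [sI_eq J ⟨U, hU⟩ hxU, sI_eq J ⟨U, hU⟩ (h.mem_open U.2 hxU), Ideal.map_map, ← CommRingCat.hom_comp,
    TopCat.Presheaf.germ_stalkSpecializes]

include hfin in
theorem mem_sI_idl {x : X} (r : X.presheaf.stalk x) : r ∈ sI (idl a hfin) x ↔
    ∀ (z : X) (h : z ⤳ x), X.presheaf.stalkSpecializes h r ∈ maximalIdeal (X.presheaf.stalk z) ^ a z := by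
  classical
  obtain ⟨U, hU, hxU, -⟩ := exists_isAffineOpen_mem_and_subset (x := x) (U := (⊤ : X.Opens)) trivial
  rw [sI_eq _ ⟨U, hU⟩ hxU]
  constructor
  · intro hr z h
    suffices hle : ((idl a hfin).ideal ⟨U, hU⟩).map (X.presheaf.germ U x hxU).hom ≤
        (maximalIdeal (X.presheaf.stalk z) ^ a z).comap (X.presheaf.stalkSpecializes h).hom from hle hr
    rw [Ideal.map_le_iff_le_comap]
    intro c hc
    show X.presheaf.stalkSpecializes h (X.presheaf.germ U x hxU c) ∈ maximalIdeal (X.presheaf.stalk z) ^ a z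
    rw [TopCat.Presheaf.germ_stalkSpecializes_apply]
    exact hc z (h.mem_open U.2 hxU)
  · intro hr
    letI := X.presheaf.algebra_section_stalk (⟨x, hxU⟩ : U)
    haveI : IsLocalization.AtPrime (X.presheaf.stalk x) (hU.primeIdealOf ⟨x, hxU⟩).asIdeal :=
      hU.isLocalization_stalk ⟨x, hxU⟩
    obtain ⟨⟨c, s⟩, hcs⟩ := IsLocalization.surj (hU.primeIdealOf ⟨x, hxU⟩).asIdeal.primeCompl r
    have hsep : ∀ z : X, ∀ hz : z ∈ U, ¬ z ⤳ x → ∃ t : Γ(X, U), IsUnit (X.presheaf.germ U x hxU t) ∧
        ¬ IsUnit (X.presheaf.germ U z hz t) := by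
      intro z hz hzx
      by_contra hno
      push Not at hno
      refine hzx ?_
      have hle : (hU.primeIdealOf ⟨z, hz⟩).asIdeal ≤ (hU.primeIdealOf ⟨x, hxU⟩).asIdeal := by
        intro t ht
        by_contra htx
        letI := X.presheaf.algebra_section_stalk (⟨z, hz⟩ : U)
        haveI : IsLocalization.AtPrime (X.presheaf.stalk z) (hU.primeIdealOf ⟨z, hz⟩).asIdeal :=
          hU.isLocalization_stalk ⟨z, hz⟩
        exact (IsLocalization.AtPrime.isUnit_to_map_iff (X.presheaf.stalk z) (hU.primeIdealOf ⟨z, hz⟩).asIdeal t).1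
          (hno t (IsLocalization.map_units (X.presheaf.stalk x)
            (⟨t, htx⟩ : (hU.primeIdealOf ⟨x, hxU⟩).asIdeal.primeCompl))) ht
      have h := ((PrimeSpectrum.le_iff_specializes _ _).1 hle).map hU.fromSpec.continuous
      rwa [hU.fromSpec_primeIdealOf, hU.fromSpec_primeIdealOf] at h
    choose! t ht1 ht2 using hsep
    let T := hfin.toFinset.filter fun z => z ∈ U ∧ ¬ z ⤳ x
    let t' : Γ(X, U) := ∏ z ∈ T, t z ^ a z
    have ht' : IsUnit (X.presheaf.germ U x hxU t') := by
      rw [map_prod]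
      exact IsUnit.prod_iff.2 fun z hz => by
        rw [map_pow]
        exact (ht1 z (Finset.mem_filter.1 hz).2.1 (Finset.mem_filter.1 hz).2.2).pow _
    have hmem : t' * c ∈ idealOn a ⟨U, hU⟩ := fun z hz => by
      by_cases ha : a z = 0
      · rw [ha, pow_zero, Ideal.one_eq_top]; exact Submodule.mem_top
      by_cases h : z ⤳ x
      · rw [map_mul]
        refine Ideal.mul_mem_left _ _ ?_
        have h1 : X.presheaf.stalkSpecializes h (algebraMap Γ(X, U) (X.presheaf.stalk x) c) ∈
            maximalIdeal (X.presheaf.stalk z) ^ a z := by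
          rw [← hcs, map_mul]
          exact Ideal.mul_mem_right _ _ (hr z h)
        rwa [show algebraMap Γ(X, U) (X.presheaf.stalk x) c = X.presheaf.germ U x hxU c from rfl,
          TopCat.Presheaf.germ_stalkSpecializes_apply] at h1
      · have hzT : z ∈ T := Finset.mem_filter.2 ⟨hfin.mem_toFinset.2 ha, hz, h⟩
        rw [map_mul, map_prod]
        refine Ideal.mul_mem_right _ _ ?_
        rw [← Finset.prod_erase_mul _ _ hzT, map_pow]
        exact Ideal.mul_mem_left _ _ (Ideal.pow_mem_pow (ht2 z hz h) _)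
    have h2 := Ideal.mem_map_of_mem (X.presheaf.germ U x hxU).hom (I := (idl a hfin).ideal ⟨U, hU⟩) hmem
    rw [map_mul] at h2
    have h3 : algebraMap Γ(X, U) (X.presheaf.stalk x) c ∈
        ((idl a hfin).ideal ⟨U, hU⟩).map (X.presheaf.germ U x hxU).hom := (Ideal.unit_mul_mem_iff_mem _ ht').1 h2
    rw [← hcs] at h3
    exact (Ideal.mul_unit_mem_iff_mem _ (IsLocalization.map_units (X.presheaf.stalk x) s)).1 h3

omit hfin in
theorem mem_support_iff (J : X.IdealSheafData) (x : X) : x ∈ J.support ↔ sI J x ≠ ⊤ := by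
  obtain ⟨U, hU, hxU, -⟩ := exists_isAffineOpen_mem_and_subset (x := x) (U := (⊤ : X.Opens)) trivial
  rw [Scheme.IdealSheafData.mem_support_iff_of_mem (U := ⟨U, hU⟩) hxU, sI_eq J ⟨U, hU⟩ hxU,
    Scheme.mem_zeroLocus_iff]
  constructor
  · intro h htop
    have hle : (J.ideal ⟨U, hU⟩).map (X.presheaf.germ U x hxU).hom ≤ maximalIdeal (X.presheaf.stalk x) :=
      Ideal.map_le_iff_le_comap.2 fun c hc hu => h c hc ((X.mem_basicOpen c x hxU).2 hu)
    rw [htop] at hle
    exact (maximalIdeal.isMaximal _).ne_top (top_le_iff.1 hle)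
  · intro h c hc hx
    exact h (Ideal.eq_top_of_isUnit_mem _ (Ideal.mem_map_of_mem _ hc) ((X.mem_basicOpen c x hxU).1 hx))

omit hfin in
/-- A specialization inducing a local map on stalks is an equality. -/
theorem eq_of_isLocalHom {z x : X} (h : z ⤳ x)
    (hloc : ∀ y : X.presheaf.stalk x, IsUnit (X.presheaf.stalkSpecializes h y) → IsUnit y) : z = x := by
  refine h.antisymm (specializes_iff_forall_open.2 fun V hV hzV => ?_) |>.eq
  obtain ⟨U, hU, hxU, -⟩ := exists_isAffineOpen_mem_and_subset (x := x) (U := (⊤ : X.Opens)) trivial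
  obtain ⟨f, hfV, hzf⟩ := hU.exists_basicOpen_le (V := ⟨V, hV⟩) ⟨z, hzV⟩ (h.mem_open U.2 hxU)
  refine hfV ((X.mem_basicOpen f x hxU).2 (hloc _ ?_))
  rw [TopCat.Presheaf.germ_stalkSpecializes_apply]
  exact (X.mem_basicOpen f z _).1 hzf

omit hfin in
/-- Two points with discrete valuation rings as stalks are incomparable. -/
theorem eq_of_specializes_dvr {z x : X} (h : z ⤳ x) [IsDomain (X.presheaf.stalk x)]
    [IsDiscreteValuationRing (X.presheaf.stalk x)] [IsDomain (X.presheaf.stalk z)]
    [IsDiscreteValuationRing (X.presheaf.stalk z)] : z = x := by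
  by_contra hne
  let φ : X.presheaf.stalk x →+* X.presheaf.stalk z := (X.presheaf.stalkSpecializes h).hom
  let P := (maximalIdeal (X.presheaf.stalk z)).comap φ
  have hP : P = ⊥ := by
    by_contra hP
    have hm : P.IsMaximal := (inferInstance : P.IsPrime).isMaximal hP
    refine hne (eq_of_isLocalHom h fun y hy => ?_)
    by_contra hy'
    have : y ∈ P := by rw [IsLocalRing.eq_maximalIdeal hm]; exact hy'
    exact this hy
  obtain ⟨ϖ, hϖ⟩ := IsDiscreteValuationRing.exists_irreducible (X.presheaf.stalk z)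
  obtain ⟨U, hU, hxU, -⟩ := exists_isAffineOpen_mem_and_subset (x := x) (U := (⊤ : X.Opens)) trivial
  have hzU : z ∈ U := h.mem_open U.2 hxU
  letI := X.presheaf.algebra_section_stalk (⟨z, hzU⟩ : U)
  haveI : IsLocalization.AtPrime (X.presheaf.stalk z) (hU.primeIdealOf ⟨z, hzU⟩).asIdeal :=
    hU.isLocalization_stalk ⟨z, hzU⟩
  obtain ⟨⟨c, s⟩, hcs⟩ := IsLocalization.surj (hU.primeIdealOf ⟨z, hzU⟩).asIdeal.primeCompl ϖ
  have hs := IsLocalization.map_units (X.presheaf.stalk z) s
  have hc : algebraMap Γ(X, U) (X.presheaf.stalk z) c = φ (X.presheaf.germ U x hxU c) := by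
    show X.presheaf.germ U z hzU c = X.presheaf.stalkSpecializes h (X.presheaf.germ U x hxU c)
    rw [TopCat.Presheaf.germ_stalkSpecializes_apply]
  by_cases hg : X.presheaf.germ U x hxU c = 0
  · rw [hc, hg, map_zero] at hcs
    exact hϖ.ne_zero ((mul_eq_zero.1 hcs).resolve_right hs.ne_zero)
  · have : IsUnit (algebraMap Γ(X, U) (X.presheaf.stalk z) c) := by
      rw [hc]
      by_contra hu
      exact hg ((Submodule.mem_bot _).1 (hP ▸ (show X.presheaf.germ U x hxU c ∈ P from hu)))
    rw [← hcs] at this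
    exact hϖ.not_isUnit (isUnit_of_mul_isUnit_left this)

variable (hreg : ∀ x, a x ≠ 0 → ∃ _ : IsDomain (X.presheaf.stalk x),
  IsDiscreteValuationRing (X.presheaf.stalk x))

include hreg in
theorem sI_idl_self {x : X} (hx : a x ≠ 0) :
    sI (idl a hfin) x = maximalIdeal (X.presheaf.stalk x) ^ a x := by
  ext r
  rw [mem_sI_idl]
  refine ⟨fun h => ?_, fun hr z h => ?_⟩
  · simpa using h x (specializes_rfl)
  · by_cases hz : a z = 0
    · rw [hz, pow_zero, Ideal.one_eq_top]; exact Submodule.mem_top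
    obtain ⟨_, _⟩ := hreg x hx
    obtain ⟨_, _⟩ := hreg z hz
    obtain rfl := eq_of_specializes_dvr h
    simpa using hr

theorem sI_idl_ne_top_iff (x : X) : sI (idl a hfin) x ≠ ⊤ ↔ ∃ z, a z ≠ 0 ∧ z ⤳ x := by
  rw [Ne, Ideal.eq_top_iff_one, mem_sI_idl]
  push Not
  refine ⟨fun ⟨z, h, hz⟩ => ⟨z, fun h0 => hz (by rw [h0, pow_zero, Ideal.one_eq_top]; exact Submodule.mem_top), h⟩,
    fun ⟨z, hz, h⟩ => ⟨z, h, fun h1 => ?_⟩⟩
  rw [map_one] at h1
  exact (maximalIdeal.isMaximal _).ne_top ((Ideal.eq_top_iff_one _).2 (Ideal.pow_le_self hz h1))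

/-- The kernel of the map of stalks of a closed subscheme. -/
theorem ker_stalk (J : X.IdealSheafData) (w : J.subscheme) :
    RingHom.ker (J.subschemeι.stalkMap w).hom = sI J (J.subschemeι w) := by
  rw [Groth.L20.Infinitesimal.ker_stalkMap, Scheme.IdealSheafData.ker_subschemeι]

theorem length_stalk (J : X.IdealSheafData) (w : J.subscheme) :
    Module.length (J.subscheme.presheaf.stalk w) (J.subscheme.presheaf.stalk w) =
      Module.length (X.presheaf.stalk (J.subschemeι w))
        (X.presheaf.stalk (J.subschemeι w) ⧸ sI J (J.subschemeι w)) := by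
  let φ : X.presheaf.stalk (J.subschemeι w) →+* J.subscheme.presheaf.stalk w := (J.subschemeι.stalkMap w).hom
  letI : Algebra (X.presheaf.stalk (J.subschemeι w)) (J.subscheme.presheaf.stalk w) := φ.toAlgebra
  have hs : Function.Surjective (Algebra.linearMap (X.presheaf.stalk (J.subschemeι w))
      (J.subscheme.presheaf.stalk w)) := J.subschemeι.stalkMap_surjective w
  rw [← Module.length_eq_of_surjective (S := X.presheaf.stalk (J.subschemeι w))
    (show Function.Surjective (algebraMap (X.presheaf.stalk (J.subschemeι w))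
      (J.subscheme.presheaf.stalk w)) from hs)]
  refine LinearEquiv.length_eq ?_
  refine ((LinearMap.quotKerEquivOfSurjective _ hs).symm).trans (Submodule.quotEquivOfEq _ _ ?_)
  exact ker_stalk J w

/-- A maximal point of a closed subscheme, in terms of its ambient space. -/
theorem exists_over (J : X.IdealSheafData) {x : X} (hx : sI J x ≠ ⊤) : ∃ w : J.subscheme, J.subschemeι w = x := by
  have : x ∈ Set.range J.subschemeι := by
    rw [Scheme.IdealSheafData.range_subschemeι]; exact (mem_support_iff J x).2 hx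
  exact this

theorem sI_ne_top (J : X.IdealSheafData) (w : J.subscheme) : sI J (J.subschemeι w) ≠ ⊤ := by
  rw [← ker_stalk]; exact RingHom.ker_ne_top _

include hreg in
theorem isMaxPoint_iff (w : (idl a hfin).subscheme) :
    (∀ w', w' ⤳ w → w' = w) ↔ a ((idl a hfin).subschemeι w) ≠ 0 := by
  constructor
  · intro h
    obtain ⟨z, hz, hzx⟩ := (sI_idl_ne_top_iff a hfin _).1 (sI_ne_top _ w)
    obtain ⟨w', hw'⟩ := exists_over _ ((sI_idl_ne_top_iff a hfin z).2 ⟨z, hz, specializes_rfl⟩)
    rw [← hw'] at hzx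
    rwa [← h w' ((idl a hfin).subschemeι.isEmbedding.isInducing.specializes_iff.1 hzx), hw']
  · intro hw w' h
    have h' := h.map (idl a hfin).subschemeι.continuous
    obtain ⟨z, hz, hzx⟩ := (sI_idl_ne_top_iff a hfin _).1 (sI_ne_top _ w')
    obtain ⟨_, _⟩ := hreg _ hw
    obtain ⟨_, _⟩ := hreg z hz
    have := eq_of_specializes_dvr (hzx.trans h')
    subst this
    exact (idl a hfin).subschemeι.isEmbedding.injective (h'.antisymm hzx).eq

include hreg in
theorem eq_idl [IsLocallyNoetherian X] (J : X.IdealSheafData)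
    (hemb : ∀ z : J.subscheme, IsAssociatedPrime (maximalIdeal (J.subscheme.presheaf.stalk z))
      (J.subscheme.presheaf.stalk z) → ∀ z', z' ⤳ z → z' = z)
    (hlen : ∀ z : J.subscheme, (∀ z', z' ⤳ z → z' = z) →
      Module.length (J.subscheme.presheaf.stalk z) (J.subscheme.presheaf.stalk z) = (a (J.subschemeι z) : ℕ∞))
    (hmem : ∀ x, a x ≠ 0 → ∃ z : J.subscheme, J.subschemeι z = x ∧ ∀ z', z' ⤳ z → z' = z) :
    J = idl a hfin := by
  classical
  have hJ : ∀ x, a x ≠ 0 → sI J x = maximalIdeal (X.presheaf.stalk x) ^ a x := by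
    intro x hx
    obtain ⟨z, rfl, hz⟩ := hmem x hx
    obtain ⟨_, _⟩ := hreg _ hx
    have hl := hlen z hz
    rw [length_stalk] at hl
    have hne : sI J (J.subschemeι z) ≠ ⊥ := by
      intro hbot
      rw [hbot] at hl
      have hle := Module.length_le_of_surjective
        (Submodule.factor (bot_le : ⊥ ≤ maximalIdeal (X.presheaf.stalk (J.subschemeι z)) ^ (a (J.subschemeι z) + 1)))
        (Submodule.factor_surjective _)
      rw [hl, IsDiscreteValuationRing.length_quotient_pow_maximalIdeal] at hle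
      exact absurd (Nat.cast_le.1 hle) (by omega)
    obtain ⟨ϖ, hϖ⟩ := IsDiscreteValuationRing.exists_irreducible (X.presheaf.stalk (J.subschemeι z))
    obtain ⟨n, hn⟩ := IsDiscreteValuationRing.ideal_eq_span_pow_irreducible hne hϖ
    rw [← Ideal.span_singleton_pow, ← hϖ.maximalIdeal_eq] at hn
    rw [hn, IsDiscreteValuationRing.length_quotient_pow_maximalIdeal, Nat.cast_inj] at hl
    rw [hn, hl]
  refine Scheme.IdealSheafData.ext (funext fun U => le_antisymm (fun c hc z hz => ?_) fun c hc => ?_)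
  · by_cases ha : a z = 0
    · rw [ha, pow_zero, Ideal.one_eq_top]; exact Submodule.mem_top
    rw [← hJ z ha, sI_eq J U hz]
    exact Ideal.mem_map_of_mem _ hc
  · by_contra hcJ
    haveI : IsNoetherianRing Γ(X, U.1) := IsLocallyNoetherian.component_noetherian U
    let v : Γ(X, U.1) ⧸ J.ideal U := Submodule.Quotient.mk c
    let M := Submodule.span Γ(X, U.1) {v}
    have hv : (⟨v, Submodule.mem_span_singleton_self v⟩ : M) ≠ 0 := fun h =>
      hcJ ((Submodule.Quotient.mk_eq_zero _).1 (congrArg Subtype.val h))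
    obtain ⟨P, hP, -⟩ := exists_le_isAssociatedPrime_of_isNoetherianRing Γ(X, U.1) _ hv
    obtain ⟨hPp, ⟨y, hy⟩, hPeq⟩ := isAssociatedPrime_iff.1 hP
    obtain ⟨t, ht⟩ := Submodule.mem_span_singleton.1 hy
    let r : Γ(X, U.1) := t * c
    have hr : r ∈ (idl a hfin).ideal U := Ideal.mul_mem_left _ _ hc
    have hPr : ∀ p, p ∈ P ↔ p * r ∈ J.ideal U := fun p => by
      rw [hPeq, Submodule.mem_colon_singleton, Submodule.mem_bot, Subtype.ext_iff]
      show p • y = 0 ↔ _
      rw [← ht, ← mul_smul, ← Submodule.Quotient.mk_smul, Submodule.Quotient.mk_eq_zero,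
        smul_eq_mul, mul_assoc]
    let y0 := U.2.fromSpec ⟨P, hPp⟩
    have hy0 : y0 ∈ U.1 := by
      have : y0 ∈ Set.range U.2.fromSpec := ⟨_, rfl⟩
      rwa [U.2.range_fromSpec] at this
    letI := X.presheaf.algebra_section_stalk (⟨y0, hy0⟩ : U.1)
    haveI := U.2.isLocalization_stalk ⟨y0, hy0⟩
    have hPz : U.2.primeIdealOf ⟨y0, hy0⟩ = ⟨P, hPp⟩ :=
      U.2.fromSpec.isOpenEmbedding.injective (U.2.fromSpec_primeIdealOf _)
    have hrJ : X.presheaf.germ U.1 y0 hy0 r ∉ sI J y0 := by
      rw [sI_eq J U hy0, show X.presheaf.germ U.1 y0 hy0 r = algebraMap Γ(X, U.1) (X.presheaf.stalk y0) r from rfl]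
      intro h
      obtain ⟨s, hs, hsr⟩ := (IsLocalization.algebraMap_mem_map_algebraMap_iff
        (U.2.primeIdealOf ⟨y0, hy0⟩).asIdeal.primeCompl (X.presheaf.stalk y0) _ _).1 h
      refine hs ?_
      rw [hPz]
      exact (hPr s).2 hsr
    obtain ⟨w, hw⟩ := exists_over J (fun h => hrJ (h ▸ Submodule.mem_top) : sI J y0 ≠ ⊤)
    have hmax : maximalIdeal (X.presheaf.stalk y0) ≤
        Submodule.comap (LinearMap.toSpanSingleton (X.presheaf.stalk y0) _ (X.presheaf.germ U.1 y0 hy0 r)) (sI J y0) := by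
      rw [← IsLocalization.AtPrime.map_eq_maximalIdeal (U.2.primeIdealOf ⟨y0, hy0⟩).asIdeal
        (X.presheaf.stalk y0), hPz, Ideal.map_le_iff_le_comap]
      intro p hp
      show algebraMap Γ(X, U.1) (X.presheaf.stalk y0) p • algebraMap Γ(X, U.1) (X.presheaf.stalk y0) r ∈ sI J y0
      rw [smul_eq_mul, ← map_mul, sI_eq J U hy0]
      exact Ideal.mem_map_of_mem _ ((hPr p).1 hp)
    clear_value y0
    subst hw
    have hsurj := J.subschemeι.stalkMap_surjective w
    haveI : IsNoetherianRing (J.subscheme.presheaf.stalk w) :=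
      isNoetherianRing_of_surjective _ _ (J.subschemeι.stalkMap w).hom hsurj
    have hass : IsAssociatedPrime (maximalIdeal (J.subscheme.presheaf.stalk w)) (J.subscheme.presheaf.stalk w) := by
      refine isAssociatedPrime_iff.2 ⟨inferInstance, J.subschemeι.stalkMap w (X.presheaf.germ U.1 _ hy0 r), ?_⟩
      refine le_antisymm (fun e he => ?_) fun e he => ?_
      · obtain ⟨b, rfl⟩ := hsurj e
        rw [Submodule.mem_colon_singleton, Submodule.mem_bot, smul_eq_mul, ← map_mul]
        refine (RingHom.mem_ker (f := (J.subschemeι.stalkMap w).hom)).1 ?_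
        rw [ker_stalk]
        exact hmax (show b ∈ maximalIdeal _ from fun hb => he (hb.map _))
      · intro hu
        rw [Submodule.mem_colon_singleton, Submodule.mem_bot, smul_eq_mul] at he
        refine hrJ ?_
        rw [← ker_stalk]
        exact (hu.mul_right_eq_zero.1 he)
    have hwmax := hemb w hass
    have ha : a (J.subschemeι w) ≠ 0 := by
      intro h0
      have := hlen w hwmax
      rw [h0, Nat.cast_zero, Module.length_eq_zero_iff] at this
      exact false_of_nontrivial_of_subsingleton (J.subscheme.presheaf.stalk w)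
    exact hrJ (hJ _ ha ▸ hr (J.subschemeι w) hy0)

include hreg in
theorem not_embedded [IsLocallyNoetherian X] (w : (idl a hfin).subscheme)
    (h : IsAssociatedPrime (maximalIdeal ((idl a hfin).subscheme.presheaf.stalk w))
      ((idl a hfin).subscheme.presheaf.stalk w)) : ∀ w', w' ⤳ w → w' = w := by
  rw [isMaxPoint_iff a hfin hreg]
  have hsurj := (idl a hfin).subschemeι.stalkMap_surjective w
  haveI : IsNoetherianRing ((idl a hfin).subscheme.presheaf.stalk w) :=
    isNoetherianRing_of_surjective _ _ ((idl a hfin).subschemeι.stalkMap w).hom hsurj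
  obtain ⟨-, r', hr'⟩ := isAssociatedPrime_iff.1 h
  obtain ⟨r, rfl⟩ := hsurj r'
  have hr : r ∉ sI (idl a hfin) ((idl a hfin).subschemeι w) := by
    rw [← ker_stalk]
    intro hr
    refine (maximalIdeal.isMaximal _).ne_top (hr'.trans ((Ideal.eq_top_iff_one _).2 ?_))
    rw [Submodule.mem_colon_singleton, Submodule.mem_bot, one_smul]
    exact hr
  rw [mem_sI_idl] at hr
  push Not at hr
  obtain ⟨z, hz, hrz⟩ := hr
  have ha : a z ≠ 0 := fun h0 => hrz (by rw [h0, pow_zero, Ideal.one_eq_top]; exact Submodule.mem_top)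
  have hzx : z = (idl a hfin).subschemeι w := eq_of_isLocalHom hz fun y hy => by
    by_contra hy'
    have hmem : (idl a hfin).subschemeι.stalkMap w y ∈ maximalIdeal ((idl a hfin).subscheme.presheaf.stalk w) :=
      fun hu => hy' (isUnit_of_map_unit ((idl a hfin).subschemeι.stalkMap w).hom y hu)
    rw [hr', Submodule.mem_colon_singleton, Submodule.mem_bot, smul_eq_mul] at hmem
    erw [← map_mul] at hmem
    have h2 : y * r ∈ sI (idl a hfin) ((idl a hfin).subschemeι w) := by rw [← ker_stalk]; exact hmem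
    have h3 := (mem_sI_idl a hfin (y * r)).1 h2 z hz
    rw [map_mul] at h3
    exact hrz ((Ideal.unit_mul_mem_iff_mem _ hy).1 h3)
  rwa [← hzx]

end Groth.L22.DivSub
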